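import Groth.Agent.DR39.GorShriek
import Groth.Agent.CAlg1.FlatFibre
import Groth.Agent.Shriek42.Adj

/-! Openness of the fibrewise Gorenstein locus of a flat algebra of finite type over a Noetherian ring. -/

set_option autoImplicit false
set_option linter.style.haveILetI false
set_option linter.unusedSectionVars false
set_option backward.isDefEq.respectTransparency false

universe u

open CategoryTheory CategoryTheory.Limits TensorProduct IsLocalRing Groth.Agent.DR39 Groth.Agent.DR39.ShriekFlat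

attribute [local instance] HasDerivedCategory.standard Groth.Agent.Shriek42.hasLB

namespace Groth.Agent.GorOpen18

section Pointwise

variable {R A : Type u} [CommRing R] [CommRing A] [IsNoetherianRing R] [IsNoetherianRing A] [Algebra R A]
  [Module.Flat R A] (n : ℕ) (ψ : MvPolynomial (Fin n) R →ₐ[R] A) (hψ : Function.Surjective ψ)
  [DRing.HasLBaseChange (algebraMap R (MvPolynomial (Fin n) R))]
  (Rψ : Dual.D (MvPolynomial (Fin n) R) ⥤ Dual.D A) (adj : DRing.restrictD ψ.toRingHom ⊣ Rψ)

include hψ adj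

theorem gor_fibre_at_of_invertible {f : A} {m : ℤ}
    (e : (DRing.LBaseChange (algebraMap A (Localization.Away f))).obj
        (Dual2.shriekVia n Rψ (Dual.inD R R)) ≅ (Dual.inD (Localization.Away f) (Localization.Away f))⟦m⟧)
    (p : Ideal R) [p.IsPrime] (Q : Ideal (p.ResidueField ⊗[R] A)) [Q.IsPrime]
    (hf : f ∉ Q.comap (Algebra.TensorProduct.includeRight : A →ₐ[R] p.ResidueField ⊗[R] A).toRingHom) :
    LocCoh.IsGorensteinLocalRing (Localization.AtPrime Q) := by
  let hR := (Algebra.TensorProduct.includeRight : A →ₐ[R] p.ResidueField ⊗[R] A).toRingHom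
  have hω := isDualizing_fibre n ψ hψ Rψ adj p.ResidueField
  haveI := hω.isNoetherianRing
  let LQ := Localization.AtPrime Q
  have hu : IsUnit (((algebraMap (p.ResidueField ⊗[R] A) LQ).comp hR) f) :=
    IsLocalization.map_units LQ (⟨hR f, hf⟩ : Q.primeCompl)
  let σ : Localization.Away f →+* LQ := IsLocalization.Away.lift f hu
  obtain ⟨c1⟩ := nonempty_lb_comp (U := LQ) hR (algebraMap (p.ResidueField ⊗[R] A) LQ)
    (σ.comp (algebraMap A (Localization.Away f))) (IsLocalization.Away.lift_comp f hu)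
  obtain ⟨c2⟩ := nonempty_lb_comp (U := LQ) (algebraMap A (Localization.Away f)) σ _ rfl
  obtain ⟨e1⟩ := nonempty_lb_shift_self σ e
  obtain ⟨e2⟩ := lbcIso (A := p.ResidueField ⊗[R] A) LQ
    ((DRing.LBaseChange hR).obj (Dual2.shriekVia n Rψ (Dual.inD R R)))
  obtain ⟨hz, ⟨e0⟩⟩ := HF_shift_self (e2.symm ≪≫ c1.app _ ≪≫ c2.symm.app _ ≪≫ e1)
  haveI : IsNoetherianRing LQ := IsLocalization.isNoetherianRing Q.primeCompl _ inferInstance
  exact gor_of_single_free (isDualizing_atPrime hω Q) (-m) hz e0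

theorem invertible_of_gor_fibre_at
    (q : Ideal A) [q.IsPrime] (Q : Ideal ((q.under R).ResidueField ⊗[R] A)) [Q.IsPrime]
    (hQq : Q.comap (Algebra.TensorProduct.includeRight : A →ₐ[R] (q.under R).ResidueField ⊗[R] A).toRingHom = q)
    (hG : LocCoh.IsGorensteinLocalRing (Localization.AtPrime Q)) :
    ∃ (f : A) (_ : f ∉ q) (m : ℤ), Nonempty ((DRing.LBaseChange (algebraMap A (Localization.Away f))).obj
        (Dual2.shriekVia n Rψ (Dual.inD R R)) ≅ (Dual.inD (Localization.Away f) (Localization.Away f))⟦m⟧) := by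
  let p := q.under R
  let ω := Dual2.shriekVia n Rψ (Dual.inD R R)
  let hR := (Algebra.TensorProduct.includeRight : A →ₐ[R] p.ResidueField ⊗[R] A).toRingHom
  have hω := isDualizing_fibre n ψ hψ Rψ adj p.ResidueField
  haveI := hω.isNoetherianRing
  let L := Localization.AtPrime q
  let LQ := Localization.AtPrime Q
  haveI : IsNoetherianRing LQ := IsLocalization.isNoetherianRing Q.primeCompl _ inferInstance
  haveI : IsNoetherianRing L := IsLocalization.isNoetherianRing q.primeCompl _ inferInstance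
  obtain ⟨m', hz, ⟨e0⟩⟩ := single_free_of_gor (isDualizing_atPrime hω Q)
    hG
  obtain ⟨eQ⟩ := nonempty_iso_of_single_free (-m') (by rwa [neg_neg]) (by rw [neg_neg]; exact e0)
  obtain ⟨e2⟩ := lbcIso (A := p.ResidueField ⊗[R] A) LQ ((DRing.LBaseChange hR).obj ω)
  let γ : L →+* LQ := Localization.localRingHom q Q hR hQq.symm
  have hγ : γ.comp (algebraMap A L) = (algebraMap (p.ResidueField ⊗[R] A) LQ).comp hR :=
    RingHom.ext fun a => Localization.localRingHom_to_map q Q hR hQq.symm a
  haveI : IsLocalHom γ := Localization.isLocalHom_localRingHom q Q hR hQq.symm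
  let θ : ResidueField L →+* ResidueField LQ := ResidueField.map γ
  obtain ⟨c1⟩ := nonempty_lb_comp (U := LQ) hR (algebraMap (p.ResidueField ⊗[R] A) LQ) (γ.comp (algebraMap A L) : A →+* LQ)
    hγ
  obtain ⟨c2⟩ := nonempty_lb_comp (U := LQ) (algebraMap A L) γ (γ.comp (algebraMap A L)) rfl
  obtain ⟨c3⟩ := nonempty_lb_comp (U := ResidueField LQ) γ (residue LQ) ((residue LQ).comp γ) rfl
  obtain ⟨c4⟩ := nonempty_lb_comp (U := ResidueField LQ) (residue L) θ ((residue LQ).comp γ) (RingHom.ext fun x => by simp [θ, ResidueField.map_residue])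
  obtain ⟨e3⟩ := nonempty_lb_shift_self (residue LQ) (m := -m')
    (c2.app ω ≪≫ c1.symm.app ω ≪≫ e2 ≪≫ eQ)
  obtain ⟨hr0, hr1⟩ := finrank_shift_self _ (c4.app ((DRing.LBaseChange (algebraMap A L)).obj ω) ≪≫
    c3.symm.app _ ≪≫ e3)
  simp only [Functor.comp_obj, finrank_HD_lb] at hr0 hr1
  obtain ⟨⟨b, hb⟩, hfin⟩ := finite_HD n ψ hψ Rψ adj
  have hab : ∀ i, (i < b ∨ 0 < i) → IsZero ((HF A i).obj ω) := fun i hi => (isZero_HF_iff _ i).2 (by
    rcases hi with hi | hi
    · exact hb i hi
    · exact subsingleton_HD_pos n ψ hψ Rψ adj i hi)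
  obtain ⟨el⟩ := lbcIso (A := A) L ω
  have hpc : DRing.IsPseudoCoherent' L ((DRing.LBaseChange (algebraMap A L)).obj ω) := by
    refine (pc'_iff_forall_pc _).2 fun j => pc_of_noetherian (b := 1) (fun i hi => ?_) (fun i => ?_) j
    · obtain ⟨e⟩ := HF_DF (extA A L) ω i
      exact ((extA A L).map_isZero (hab i (Or.inr (by omega)))).of_iso ((HF L i).mapIso el ≪≫ e)
    · haveI := hfin i
      haveI := finite_HF_DF L (X := ω) (i := i)
      exact Module.Finite.equiv ((HF L i).mapIso el).symm.toLinearEquiv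
  obtain ⟨eL⟩ := nonempty_iso_of_fibre hpc (-m') hr0 hr1
  obtain ⟨f, hf, ⟨ef⟩⟩ := exists_away_of_local hfin hab q (-m') (el.symm ≪≫ eL)
  obtain ⟨ef'⟩ := lbcIso (A := A) (Localization.Away f) ω
  exact ⟨f, hf, -m', ⟨ef' ≪≫ ef⟩⟩

end Pointwise

/-- The fibre of `R → A` at `q` is Gorenstein. -/
def GorAt (R : Type u) {A : Type u} [CommRing R] [CommRing A] [Algebra R A] (q : PrimeSpectrum A) : Prop :=
  LocCoh.IsGorensteinLocalRing
    (Localization.AtPrime q.asIdeal ⧸ (q.asIdeal.under R).map (algebraMap R (Localization.AtPrime q.asIdeal)))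

theorem gorAt_iff_localization {R A : Type u} [CommRing R] [CommRing A] [Algebra R A] (q : PrimeSpectrum A)
    (Q : Ideal ((q.asIdeal.under R).ResidueField ⊗[R] A)) [Q.IsPrime]
    (hQ : Q.comap (Algebra.TensorProduct.includeRight : A →ₐ[R] (q.asIdeal.under R).ResidueField ⊗[R] A).toRingHom =
      q.asIdeal) :
    GorAt R q ↔ LocCoh.IsGorensteinLocalRing (Localization.AtPrime Q) := by
  obtain ⟨q, hq⟩ := q
  dsimp only at Q hQ
  unfold GorAt
  dsimp only
  set p := q.under R with hp
  have key : LocCoh.IsGorensteinLocalRing (Localization.AtPrime Q) ↔ LocCoh.IsGorensteinLocalRing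
      (Localization.AtPrime (Q.comap (Algebra.TensorProduct.includeRight : A →ₐ[R] p.Fiber A)) ⧸
        p.map (algebraMap R (Localization.AtPrime
          (Q.comap (Algebra.TensorProduct.includeRight : A →ₐ[R] p.Fiber A))))) := by
    haveI : (Q.comap (Algebra.TensorProduct.includeRight : A →ₐ[R] p.Fiber A)).LiesOver p := ⟨by
      exact (congrArg (Ideal.under R) hQ).symm⟩
    let := Localization.AtPrime.algebraOfLiesOver p (Q.comap (Algebra.TensorProduct.includeRight : A →ₐ[R] p.Fiber A))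
    exact Gor18.gor_congr (Ideal.Fiber.localizationAlgEquivQuotient p Q).toRingEquiv
  rw [key]
  have aux : ∀ (q' : Ideal A) [q'.IsPrime], q' = q →
      (LocCoh.IsGorensteinLocalRing (Localization.AtPrime q ⧸ p.map (algebraMap R (Localization.AtPrime q))) ↔
        LocCoh.IsGorensteinLocalRing (Localization.AtPrime q' ⧸ p.map (algebraMap R (Localization.AtPrime q')))) := by
    intro q' _ h
    subst h
    rfl
  exact aux _ hQ

/-- **The fibrewise Gorenstein locus is open**, Noetherian affine case. -/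
theorem isOpen_setOf_gorAt (R A : Type u) [CommRing R] [CommRing A] [IsNoetherianRing R] [Algebra R A]
    [Algebra.FiniteType R A] [Module.Flat R A] : IsOpen {q : PrimeSpectrum A | GorAt R q} := by
  haveI : IsNoetherianRing A := Algebra.FiniteType.isNoetherianRing R A
  obtain ⟨n, ψ, hψ⟩ := Algebra.FiniteType.iff_quotient_mvPolynomial''.1 ‹Algebra.FiniteType R A›
  let adj := Shriek42.rightDAdj ψ.toRingHom
  rw [isOpen_iff_forall_mem_open]
  intro q hq
  obtain ⟨Q, hQ, hQq⟩ := CAlg1.exists_fibre_prime (R := R) q.asIdeal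
  haveI : Q.IsPrime := hQ
  obtain ⟨f, hf, m, ⟨e⟩⟩ := invertible_of_gor_fibre_at n ψ hψ _ adj q.asIdeal Q hQq
    ((gorAt_iff_localization q Q hQq).1 hq)
  refine ⟨PrimeSpectrum.basicOpen f, fun q' hq' => ?_, (PrimeSpectrum.basicOpen f).isOpen, hf⟩
  obtain ⟨Q', hQ', hQq'⟩ := CAlg1.exists_fibre_prime (R := R) q'.asIdeal
  haveI : Q'.IsPrime := hQ'
  refine (gorAt_iff_localization q' Q' hQq').2 (gor_fibre_at_of_invertible n ψ hψ _ adj e _ Q' ?_)
  exact fun h => hq' (hQq' ▸ h : f ∈ q'.asIdeal)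

end Groth.Agent.GorOpen18
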