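import Groth.Agent.GorOpen18.Affine
import Groth.Agent.LimTop61.GorPt
import Groth.Agent.An92.Gor.BaseChange
import Groth.Agent.An92.Gor.FibreStalk
import Groth.Agent.FlatMor68.NoethFlat

/-! Openness of the Gorenstein locus of a flat morphism locally of finite presentation. -/

set_option autoImplicit false
set_option linter.style.haveILetI false

universe u

open CategoryTheory CategoryTheory.Limits AlgebraicGeometry IsLocalRing

namespace Groth.Agent.GorOpen18

theorem gor_congr_map {A B C : Type u} [CommRing A] [CommRing B] [CommRing C] (e : A ≃+* B) (ψ : C →+* A)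
    (I : Ideal C) (J : Ideal B) (h : J = I.map (e.toRingHom.comp ψ)) :
    LocCoh.IsGorensteinLocalRing (A ⧸ I.map ψ) ↔ LocCoh.IsGorensteinLocalRing (B ⧸ J) :=
  Gor18.gor_congr (Ideal.quotientEquiv (I.map ψ) J e (by rw [Ideal.map_map]; exact h))

theorem map_maximalIdeal_comp_equiv {T B C : Type u} [CommRing T] [IsLocalRing T] [CommRing B] [IsLocalRing B]
    [CommRing C] (e : T ≃+* B) (g : B →+* C) :
    (maximalIdeal T).map (g.comp e.toRingHom) = (maximalIdeal B).map g := by
  rw [← Ideal.map_map, IsLocalRing.map_maximalIdeal_of_surjective e.toRingHom e.surjective]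

theorem gorAt_Spec_iff {R A : CommRingCat.{u}} (φ : R ⟶ A) [Flat (Spec.map φ)] (q : PrimeSpectrum A) :
    Dual3.IsGorensteinAt (Spec.map φ) q ↔ letI := φ.hom.toAlgebra; GorAt R q := by
  letI := φ.hom.toAlgebra
  refine (An92.Gor.gorAt_iff (Spec.map φ) q).trans ((and_iff_right (Flat.stalkMap _ _)).trans ?_)
  unfold GorAt
  let er := (Spec.stalkIso R (PrimeSpectrum.comap φ.hom q)).commRingCatIsoToRingEquiv
  refine gor_congr_map (Spec.stalkIso A q).commRingCatIsoToRingEquiv _ _ _ ?_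
  have h : (Spec.stalkIso A q).commRingCatIsoToRingEquiv.toRingHom.comp ((Spec.map φ).stalkMap q).hom =
      (Localization.localRingHom (PrimeSpectrum.comap φ.hom q).asIdeal q.asIdeal φ.hom rfl).comp er.toRingHom :=
    congrArg CommRingCat.Hom.hom (Scheme.arrowStalkMapSpecIso φ q).hom.w.symm
  refine Eq.trans ?_ ((congrArg (fun g => (maximalIdeal _).map g) h).trans (map_maximalIdeal_comp_equiv er _)).symm
  refine Eq.trans ?_ (congrArg (Ideal.map _) Localization.AtPrime.map_eq_maximalIdeal)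
  rw [Ideal.map_map]
  congr 1
  ext r
  exact (Localization.localRingHom_to_map _ q.asIdeal φ.hom rfl r).symm

theorem isOpen_noeth_affine {X S : Scheme.{u}} (f : X ⟶ S) [IsAffine X] [IsAffine S] [IsLocallyNoetherian S]
    [Flat f] [LocallyOfFiniteType f] : IsOpen {x : X | Dual3.IsGorensteinAt f x} := by
  let φ := f.appTop
  have hc : IsPullback X.isoSpec.hom f (Spec.map φ) S.isoSpec.hom :=
    IsPullback.of_horiz_isIso ⟨Scheme.isoSpec_hom_naturality f⟩
  have hflat : Flat (Spec.map φ) := by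
    rw [show Spec.map φ = X.isoSpec.inv ≫ f ≫ S.isoSpec.hom by rw [← Scheme.isoSpec_hom_naturality, Iso.inv_hom_id_assoc]]
    infer_instance
  have hlft : LocallyOfFiniteType (Spec.map φ) := by
    rw [show Spec.map φ = X.isoSpec.inv ≫ f ≫ S.isoSpec.hom by rw [← Scheme.isoSpec_hom_naturality, Iso.inv_hom_id_assoc]]
    infer_instance
  letI := φ.hom.toAlgebra
  haveI : IsNoetherianRing Γ(S, ⊤) := IsLocallyNoetherian.component_noetherian ⟨⊤, isAffineOpen_top S⟩
  haveI : Algebra.FiniteType Γ(S, ⊤) Γ(X, ⊤) := (HasRingHomProperty.Spec_iff (P := @LocallyOfFiniteType)).1 hlft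
  haveI : Module.Flat Γ(S, ⊤) Γ(X, ⊤) := (HasRingHomProperty.Spec_iff (P := @Flat)).1 hflat
  have he : {x : X | Dual3.IsGorensteinAt f x} =
      X.isoSpec.hom ⁻¹' {q : PrimeSpectrum Γ(X, ⊤) | GorAt Γ(S, ⊤) q} := by
    ext x
    exact (An92.Gor.gorAt_baseChange_iff hc x).trans (gorAt_Spec_iff φ _)
  rw [he]
  exact (isOpen_setOf_gorAt _ _).preimage X.isoSpec.hom.continuous

theorem isOpen_affine {X S : Scheme.{u}} (f : X ⟶ S) [IsAffine X] [IsAffine S]
    [Flat f] [LocallyOfFinitePresentation f] : IsOpen {x : X | Dual3.IsGorensteinAt f x} := by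
  obtain ⟨X₀, S₀, f₀, g, g', _, _, hc, hft, _, _⟩ := FlatMor68.NoethFlat.t9759 f
  haveI : IsNoetherianRing Γ(S₀, ⊤) := Algebra.FiniteType.isNoetherianRing ℤ _
  haveI : IsLocallyNoetherian S₀ := isLocallyNoetherian_of_isOpenImmersion S₀.isoSpec.hom
  have he : {x : X | Dual3.IsGorensteinAt f x} = g' ⁻¹' {x | Dual3.IsGorensteinAt f₀ x} := by
    ext x
    exact An92.Gor.gorAt_baseChange_iff hc x
  rw [he]
  exact (isOpen_noeth_affine f₀).preimage g'.continuous

theorem gorAt_openImmersion_comp {W X S : Scheme.{u}} (j : W ⟶ X) [IsOpenImmersion j] (f : X ⟶ S)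
    [LocallyOfFiniteType f] (w : W) : Dual3.IsGorensteinAt (j ≫ f) w ↔ Dual3.IsGorensteinAt f (j w) := by
  haveI := LimTop61.isLocallyNoetherian_fiber_of_lft f (f (j w))
  haveI := LimTop61.isLocallyNoetherian_fiber_of_lft (j ≫ f) ((j ≫ f) w)
  obtain ⟨h1, h2⟩ := An92.Gor.gorAt_comp j f w
  exact ⟨fun h => (h2 h (Flat.stalkMap j w)).2, fun h => h1 (LimTop61.gorAt_of_etale j w) h⟩

/-- **The Gorenstein locus of a flat morphism locally of finite presentation is open.** -/
theorem isOpen_setOf_isGorensteinAt {X S : Scheme.{u}} (f : X ⟶ S) [Flat f] [LocallyOfFinitePresentation f] :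
    IsOpen {x : X | Dual3.IsGorensteinAt f x} := by
  rw [isOpen_iff_forall_mem_open]
  intro x hx
  obtain ⟨V, hV, hxV, -⟩ := exists_isAffineOpen_mem_and_subset (show f x ∈ (⊤ : S.Opens) from trivial)
  obtain ⟨U, hU, hxU, hUV⟩ := exists_isAffineOpen_mem_and_subset (show x ∈ f ⁻¹ᵁ V from hxV)
  haveI : IsAffine U.toScheme := hU
  haveI : IsAffine V.toScheme := hV
  let h : U.toScheme ⟶ V.toScheme := X.homOfLE hUV ≫ (f ∣_ V)
  haveI : Flat h := inferInstance
  haveI : LocallyOfFinitePresentation h := inferInstance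
  have key : ∀ u : U.toScheme, Dual3.IsGorensteinAt h u ↔ Dual3.IsGorensteinAt f (U.ι u) := fun u => by
    rw [gorAt_openImmersion_comp, An92.Gor.gorAt_baseChange_iff (isPullback_morphismRestrict f V).flip]
    change Dual3.IsGorensteinAt f ((X.homOfLE hUV ≫ (f ⁻¹ᵁ V).ι) u) ↔ _
    rw [X.homOfLE_ι]
  refine ⟨U.ι '' {u | Dual3.IsGorensteinAt h u}, ?_,
    U.ι.isOpenEmbedding.isOpenMap _ (isOpen_affine h), ⟨⟨x, hxU⟩, (key _).2 hx, rfl⟩⟩
  rintro _ ⟨u, hu, rfl⟩
  exact (key u).1 hu

/-- The Gorenstein fibres of a proper flat morphism of finite presentation form an open set. -/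
theorem isOpen_setOf_gor_fibre {X Y : Scheme.{u}} (f : X ⟶ Y) [IsProper f] [Flat f] [LocallyOfFinitePresentation f] :
    IsOpen {y : Y | ∀ x : ↥(f.fiber y), LocCoh.IsGorensteinLocalRing ((f.fiber y).presheaf.stalk x)} := by
  have key : ∀ (y : Y) (w : ↥(f.fiber y)) (x : X), f.fiberι y w = x →
      (LocCoh.IsGorensteinLocalRing ((f.fiber y).presheaf.stalk w) ↔ Dual3.IsGorensteinAt f x) := fun y w x hw => by
    rw [An92.Gor.gor_fiber_iff f w hw, An92.Gor.gorAt_iff]
    exact (and_iff_right (Flat.stalkMap f x)).symm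
  have heq : {y : Y | ∀ x : ↥(f.fiber y), LocCoh.IsGorensteinLocalRing ((f.fiber y).presheaf.stalk x)} =
      (f '' {x : X | Dual3.IsGorensteinAt f x}ᶜ)ᶜ := by
    ext y
    constructor
    · rintro h ⟨x, hx, rfl⟩
      exact hx ((key (f x) (f.asFiber x) x (f.fiberι_asFiber x)).1 (h (f.asFiber x)))
    · intro h x
      rw [key y x _ rfl]
      by_contra hx
      exact h ⟨f.fiberι y x, hx, E4O.apply_fiberι f y x⟩
  rw [heq]
  exact (f.isClosedMap _ (isOpen_setOf_isGorensteinAt f).isClosed_compl).isOpen_compl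

end Groth.Agent.GorOpen18
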